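import Groth.Agent.Lib.ParaF27.UFDCrit
import Groth.Agent.Lib.Depth.More
import Mathlib.RingTheory.IntegralClosure.IntegrallyClosed

/-!
# Depth two and divisibility on the punctured spectrum
-/

set_option autoImplicit false

universe u

open CategoryTheory AlgebraicGeometry IsLocalRing
open scoped Pointwise

namespace Groth.Agent.ParaF27

variable (A : Type u) [CommRing A] [IsLocalRing A]

/-- There is a regular sequence of length two in the maximal ideal. -/
def Pair2 : Prop :=
  ∃ a b : A, a ∈ maximalIdeal A ∧ b ∈ maximalIdeal A ∧ IsSMulRegular A a ∧ ∀ z : A, a ∣ b * z → a ∣ z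

theorem zero_of_regular {A : Type*} [CommRing A] {a x : A} (h : IsSMulRegular A a) (hx : a * x = 0) : x = 0 :=
  h (show a • x = a • (0 : A) by rw [smul_zero]; exact hx)

theorem pair2_of_depth (h : (2 : ℕ∞) ≤ LocCoh.depth A A) : Pair2 A := by
  have hM : maximalIdeal A • (⊤ : Submodule A A) ≠ ⊤ := by
    rw [smul_eq_mul, Ideal.mul_top]
    exact (maximalIdeal.isMaximal A).ne_top
  obtain ⟨rs, hreg, hmem, hlen⟩ := DepthLib.exists_isWeaklyRegular_of_le_idealDepth (n := 2) hM h
  obtain ⟨a, b, rfl⟩ := List.length_eq_two.1 hlen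
  rw [RingTheory.Sequence.isWeaklyRegular_cons_iff, RingTheory.Sequence.isWeaklyRegular_cons_iff] at hreg
  refine ⟨a, b, hmem a (by simp), hmem b (by simp), hreg.1, fun z hz => ?_⟩
  obtain ⟨c, hc⟩ := hz
  have h0 : b • (Submodule.Quotient.mk z : QuotSMulTop a A) = b • 0 := by
    rw [smul_zero, ← Submodule.Quotient.mk_smul, Submodule.Quotient.mk_eq_zero]
    exact (Submodule.mem_smul_pointwise_iff_exists _ _ _).2 ⟨c, trivial, hc.symm⟩
  obtain ⟨d, -, hd⟩ := (Submodule.mem_smul_pointwise_iff_exists _ _ _).1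
    ((Submodule.Quotient.mk_eq_zero _).1 (hreg.2.1 h0))
  exact ⟨d, hd.symm⟩

theorem depth_of_pair2 (h : Pair2 A) : (2 : ℕ∞) ≤ LocCoh.depth A A := by
  obtain ⟨a, b, ha, hb, hareg, hdvd⟩ := h
  have hw : RingTheory.Sequence.IsWeaklyRegular A [a, b] := by
    refine (RingTheory.Sequence.isWeaklyRegular_cons_iff A a [b]).2 ⟨hareg,
      (RingTheory.Sequence.isWeaklyRegular_cons_iff _ b []).2 ⟨?_, RingTheory.Sequence.IsWeaklyRegular.nil _ _⟩⟩
    refine (isSMulRegular_iff_right_eq_zero_of_smul).2 fun x hx => ?_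
    obtain ⟨z, rfl⟩ := Submodule.Quotient.mk_surjective _ x
    rw [← Submodule.Quotient.mk_smul, Submodule.Quotient.mk_eq_zero] at hx
    obtain ⟨c, -, hc⟩ := (Submodule.mem_smul_pointwise_iff_exists _ _ _).1 hx
    obtain ⟨d, hd⟩ := hdvd z ⟨c, hc.symm⟩
    exact (Submodule.Quotient.mk_eq_zero _).2 ((Submodule.mem_smul_pointwise_iff_exists _ _ _).2 ⟨d, trivial, hd.symm⟩)
  exact DepthLib.length_le_idealDepth hw fun r hr => by
    simp only [List.mem_cons, List.not_mem_nil, or_false] at hr
    rcases hr with rfl | rfl <;> assumption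

variable {A}

theorem exists_pow_le_of_not_le [IsNoetherianRing A] (J : Ideal A)
    (h : ∀ p : Ideal A, p.IsPrime → p ≠ maximalIdeal A → ¬ J ≤ p) : ∃ n : ℕ, maximalIdeal A ^ n ≤ J := by
  refine Ideal.exists_pow_le_of_le_radical_of_fg ?_ (IsNoetherian.noetherian _)
  rw [Ideal.radical_eq_sInf]
  exact le_sInf fun p hp => le_of_eq (by_contra fun hne => h p hp.2 (Ne.symm hne) hp.1)

omit [IsLocalRing A] in
theorem Pair2.pow {a b : A} (ha : IsSMulRegular A a) (h : ∀ z, a ∣ b * z → a ∣ z) (n k : ℕ) :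
    ∀ z, a ^ n ∣ b ^ k * z → a ^ n ∣ z := by
  have h1 : ∀ (n : ℕ) z, a ^ n ∣ b * z → a ^ n ∣ z := fun n => by
    induction n with
    | zero => exact fun z _ => by simp
    | succ n ih =>
      intro z hz
      obtain ⟨c, hc⟩ := hz
      obtain ⟨z', rfl⟩ := h z ⟨a ^ n * c, by rw [hc]; ring⟩
      have : b * z' = a ^ n * c := ha (show a * (b * z') = a * (a ^ n * c) by rw [← mul_assoc a b, mul_comm a b, mul_assoc, hc]; ring)
      obtain ⟨w, rfl⟩ := ih z' ⟨c, this⟩
      exact ⟨w, by ring⟩
  induction k with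
  | zero => exact fun z hz => by simpa using hz
  | succ k ih => exact fun z hz => h1 n z (ih _ (by rwa [pow_succ, mul_assoc] at hz))

theorem Pair2.dvd (hd : Pair2 A) [IsNoetherianRing A] (J : Ideal A)
    (h : ∀ p : Ideal A, p.IsPrime → p ≠ maximalIdeal A → ¬ J ≤ p) :
    ∃ a b : A, a ∈ J ∧ b ∈ J ∧ IsSMulRegular A a ∧ ∀ z : A, a ∣ b * z → a ∣ z := by
  obtain ⟨a, b, ha, hb, hareg, hab⟩ := hd
  obtain ⟨n, hn⟩ := exists_pow_le_of_not_le J h
  exact ⟨a ^ n, b ^ n, hn (Ideal.pow_mem_pow ha n), hn (Ideal.pow_mem_pow hb n), hareg.pow n,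
    Pair2.pow hareg hab n n⟩

theorem dvdOn_of_pair2 [IsDomain A] [IsNoetherianRing A] (hd : Pair2 A) :
    DvdOn A (FEt.puncturedSpec A) := by
  intro x a ha h
  obtain ⟨c, d, hc, hdJ, hcreg, hcd⟩ := hd.dvd (Submodule.comap (LinearMap.mulRight A x) (Ideal.span {a}))
    fun p hp hpm hle => by
      obtain ⟨s, hs, hs'⟩ := h ⟨p, hp⟩ ((mem_puncturedSpec_iff A).2 hpm)
      exact hs (hle (Ideal.mem_span_singleton.2 hs'))
  obtain ⟨s, hs⟩ := Ideal.mem_span_singleton.1 hc
  obtain ⟨t, ht⟩ := Ideal.mem_span_singleton.1 hdJ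
  change c * x = a * s at hs
  change d * x = a * t at ht
  obtain ⟨r, rfl⟩ := hcd s ⟨t, mul_left_cancel₀ ha (by linear_combination -d * hs + c * ht)⟩
  exact ⟨r, hcreg (show c * x = c * (a * r) by rw [hs]; ring)⟩

theorem dvdOn_of_normal [IsDomain A] [IsNoetherianRing A] [IsIntegrallyClosed A]
    (hdim : (2 : WithBot ℕ∞) ≤ ringKrullDim A) : DvdOn A (FEt.puncturedSpec A) := by
  intro x a ha h
  obtain ⟨n, hn⟩ := exists_pow_le_of_not_le (Submodule.comap (LinearMap.mulRight A x) (Ideal.span {a}))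
    fun p hp hpm hle => by
      obtain ⟨s, hs, hs'⟩ := h ⟨p, hp⟩ ((mem_puncturedSpec_iff A).2 hpm)
      exact hs (hle (Ideal.mem_span_singleton.2 hs'))
  clear h
  have one : ∀ z : A, (∀ t ∈ maximalIdeal A, a ∣ t * z) → a ∣ z := by
    intro z hz
    let K := FractionRing A
    let y : K := algebraMap A K z / algebraMap A K a
    have ha' : algebraMap A K a ≠ 0 := fun h' => ha (IsFractionRing.injective A K (by rw [h', map_zero]))
    choose c hc using hz
    have hy : ∀ t (ht : t ∈ maximalIdeal A), algebraMap A K t * y = algebraMap A K (c t ht) := fun t ht => by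
      rw [← mul_div_assoc, div_eq_iff ha', ← map_mul, ← map_mul, hc t ht, mul_comm]
    by_cases hall : ∀ t (ht : t ∈ maximalIdeal A), c t ht ∈ maximalIdeal A
    · let N : Submodule A K := Submodule.map (Algebra.linearMap A K) (maximalIdeal A)
      have hN0 : ∃ w ∈ N, w ≠ (0 : K) := by
        have hne : maximalIdeal A ≠ ⊥ := fun h' => by
          rw [← IsLocalRing.isField_iff_maximalIdeal_eq] at h'
          rw [ringKrullDim_eq_zero_of_isField h'] at hdim
          exact absurd hdim (by decide)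
        obtain ⟨w, hw, hw0⟩ := Submodule.exists_mem_ne_zero_of_ne_bot hne
        exact ⟨_, ⟨w, hw, rfl⟩, fun h' => hw0 (IsFractionRing.injective A K (h'.trans (map_zero _).symm))⟩
      obtain ⟨w, hw, hw0⟩ := hN0
      have hint : IsIntegral A y := isIntegral_of_smul_mem_submodule N (fun e => hw0 (by rw [e] at hw; exact hw))
        ((IsNoetherian.noetherian _).map _) y fun v ⟨t, ht, hv⟩ => ⟨c t ht, hall t ht, by
          rw [← hv, smul_eq_mul, Algebra.linearMap_apply, Algebra.linearMap_apply, mul_comm]; exact (hy t ht).symm⟩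
      obtain ⟨r, hr⟩ := IsIntegrallyClosed.isIntegral_iff.1 hint
      rw [eq_div_iff ha', ← map_mul] at hr
      exact ⟨r, by rw [← IsFractionRing.injective A K hr, mul_comm]⟩
    · push Not at hall
      obtain ⟨t, ht, htu⟩ := hall
      rw [IsLocalRing.mem_maximalIdeal, mem_nonunits_iff, not_not] at htu
      exfalso
      have hspan : maximalIdeal A = Ideal.span {t} := le_antisymm (fun w hw => by
        refine Ideal.mem_span_singleton.2 ((htu.dvd_mul_right).1 ⟨c w hw, IsFractionRing.injective A K ?_⟩)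
        rw [map_mul, map_mul, ← hy t ht, ← hy w hw]; ring) ((Ideal.span_singleton_le_iff_mem _).2 ht)
      have h2 := hdim.trans_eq IsLocalRing.maximalIdeal_height_eq_ringKrullDim.symm
      rw [hspan] at h2
      have h3 : (2 : ℕ∞) ≤ 1 := le_trans (WithBot.coe_le_coe.1 h2)
        (Ideal.height_span_singleton_le_one (x := t) ((IsLocalRing.mem_maximalIdeal t).1 ht))
      exact absurd h3 (by decide)
  have key : ∀ k, (∀ t ∈ maximalIdeal A ^ k, a ∣ t * x) → a ∣ x := by
    intro k
    induction k with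
    | zero => exact fun hk => by simpa using hk 1 (by simp)
    | succ k ih =>
      refine fun hk => ih fun t ht => one _ fun r hr => ?_
      rw [← mul_assoc]
      exact hk _ (by rw [pow_succ']; exact Ideal.mul_mem_mul hr ht)
  exact key n fun t ht => Ideal.mem_span_singleton.1 (hn ht)

theorem isDomain_of_pair2 [IsNoetherianRing A] (hd : Pair2 A)
    (hloc : ∀ (p : Ideal A) [p.IsPrime], p ≠ maximalIdeal A → IsDomain (Localization.AtPrime p)) :
    IsDomain A := by
  have hred : ∀ x : A, x * x = 0 → x = 0 := fun x hx => by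
    obtain ⟨a, b, ha, -, hareg, -⟩ := hd.dvd ((Submodule.span A {x}).annihilator) fun p hp hpm hle => by
      have := hloc p hpm
      have h0 : algebraMap A (Localization.AtPrime p) x = 0 :=
        mul_self_eq_zero.1 (by rw [← map_mul, hx, map_zero])
      obtain ⟨w, hw⟩ := (IsLocalization.map_eq_zero_iff p.primeCompl _ _).1 h0
      exact w.2 (hle ((Submodule.mem_annihilator_span_singleton _ _).2 hw))
    exact zero_of_regular hareg ((Submodule.mem_annihilator_span_singleton _ _).1 ha)
  have : NoZeroDivisors A := ⟨fun {x y} hxy => by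
    by_contra hne
    push Not at hne
    let I : Ideal A := (Submodule.span A {x}).annihilator
    let J : Ideal A := Submodule.annihilator I
    have hIJ : ∀ z, z ∈ I → z ∈ J → z = 0 := fun z hzI hzJ => hred z (Submodule.mem_annihilator.1 hzJ z hzI)
    have hy : y ∈ I := (Submodule.mem_annihilator_span_singleton _ _).2 (by rw [smul_eq_mul, mul_comm]; exact hxy)
    have hx : x ∈ J := Submodule.mem_annihilator.2 fun z hz => by
      rw [smul_eq_mul, mul_comm]; exact (Submodule.mem_annihilator_span_singleton _ _).1 hz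
    obtain ⟨a, b, ha, hb, hareg, hab⟩ := hd.dvd (I ⊔ J) fun p hp hpm hle => by
      have := hloc p hpm
      by_cases h0 : algebraMap A (Localization.AtPrime p) x = 0
      · obtain ⟨w, hw⟩ := (IsLocalization.map_eq_zero_iff p.primeCompl _ _).1 h0
        exact w.2 (hle (Submodule.mem_sup_left ((Submodule.mem_annihilator_span_singleton _ _).2 hw)))
      · obtain ⟨G, hG⟩ := IsNoetherian.noetherian (R := A) I
        have hG' : ∀ g ∈ G, ∃ w : p.primeCompl, (w : A) * g = 0 := fun g hg => by
          refine (IsLocalization.map_eq_zero_iff p.primeCompl (Localization.AtPrime p) _).1 ((mul_eq_zero.1 ?_).resolve_right h0)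
          rw [← map_mul, show g * x = 0 from (Submodule.mem_annihilator_span_singleton _ _).1
            (hG.le (Submodule.subset_span hg)), map_zero]
        choose w hw using hG'
        classical
        let F : p.primeCompl := ∏ g ∈ G.attach, w g.1 g.2
        refine F.2 (hle (Submodule.mem_sup_right ?_))
        show (F : A) ∈ Submodule.annihilator I
        rw [← hG, Submodule.mem_annihilator_span]
        rintro ⟨g, hg⟩
        obtain ⟨q, hq⟩ : (w g hg : A) ∣ (F : A) := map_dvd p.primeCompl.subtype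
          (Finset.dvd_prod_of_mem (fun g : {g // g ∈ G} => w g.1 g.2) (Finset.mem_attach G ⟨g, hg⟩))
        show (F : A) * g = 0
        rw [hq, mul_right_comm, hw, zero_mul]
    obtain ⟨i, hi, j, hj, hij⟩ := Submodule.mem_sup.1 ha
    obtain ⟨i', hi', j', hj', hij'⟩ := Submodule.mem_sup.1 hb
    have h0 : b * j - a * j' = 0 := hIJ _ (by
      rw [show b * j - a * j' = i' * j - i * j' by rw [← hij, ← hij']; ring]
      exact sub_mem (Ideal.mul_mem_right _ _ hi') (Ideal.mul_mem_right _ _ hi))
      (sub_mem (Ideal.mul_mem_left _ _ hj) (Ideal.mul_mem_left _ _ hj'))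
    obtain ⟨c, hc⟩ := hab j ⟨j', sub_eq_zero.1 h0⟩
    have h1 : j * i = 0 := (Submodule.mem_annihilator.1 hj i hi)
    rw [hc, show i = a * (1 - c) by rw [mul_sub, mul_one, ← hc, ← hij]; ring] at h1
    have h2 : c * (1 - c) = 0 := zero_of_regular hareg (zero_of_regular hareg (by
      rw [← h1]; ring))
    rcases IsLocalRing.isUnit_or_isUnit_one_sub_self c with hu | hu
    · have hcj : a ∈ J := by
        rw [← hij, show i = a * (1 - c) by rw [mul_sub, mul_one, ← hc, ← hij]; ring, hu.mul_right_eq_zero.1 h2, mul_zero, zero_add]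
        exact hj
      exact hne.2 (zero_of_regular hareg (Submodule.mem_annihilator.1 hcj y hy))
    · have hci : a ∈ I := by
        rw [← hij, hc, hu.mul_left_eq_zero.1 h2, mul_zero, add_zero]
        exact hi
      exact hne.1 (zero_of_regular hareg ((Submodule.mem_annihilator_span_singleton _ _).1 hci))⟩
  exact NoZeroDivisors.to_isDomain A

theorem pair2_of_ufd [IsDomain A] [IsNoetherianRing A] [UniqueFactorizationMonoid A]
    (hdim : (2 : WithBot ℕ∞) ≤ ringKrullDim A) : Pair2 A := by
  have hne : maximalIdeal A ≠ ⊥ := fun h' => by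
    rw [← IsLocalRing.isField_iff_maximalIdeal_eq] at h'
    rw [ringKrullDim_eq_zero_of_isField h'] at hdim
    exact absurd hdim (by decide)
  obtain ⟨π, hπm, hπ⟩ := (maximalIdeal.isMaximal A).isPrime.exists_mem_prime_of_ne_bot hne
  obtain ⟨b, hb, hbπ⟩ : ∃ b ∈ maximalIdeal A, b ∉ Ideal.span {π} := by
    by_contra hcon
    push Not at hcon
    have h2 := hdim.trans_eq IsLocalRing.maximalIdeal_height_eq_ringKrullDim.symm
    rw [le_antisymm hcon ((Ideal.span_singleton_le_iff_mem _).2 hπm)] at h2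
    exact absurd (le_trans (WithBot.coe_le_coe.1 h2) (Ideal.height_span_singleton_le_one (x := π) hπ.not_isUnit) :
      (2 : ℕ∞) ≤ 1) (by decide)
  exact ⟨π, b, hπm, hb, IsSMulRegular.of_ne_zero hπ.ne_zero, fun z hz =>
    (hπ.dvd_or_dvd hz).resolve_left fun h => hbπ (Ideal.mem_span_singleton.2 h)⟩

end Groth.Agent.ParaF27
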