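import Groth.Agent.Lib.ParaF27.Res

/-!
# Parafactorial pairs: criterion, locality
-/

set_option autoImplicit false

universe u

open CategoryTheory Limits AlgebraicGeometry Opposite TopologicalSpace

namespace Groth.Agent.ParaF27

open Groth.Agent.M1

variable {X : Scheme.{u}}

theorem map_bij_congr {A A' B B' : X.Opens} (hA : A = A') (hB : B = B') {i : B ⟶ A}
    (h : Function.Bijective (X.presheaf.map i.op)) (i' : B' ⟶ A') :
    Function.Bijective (X.presheaf.map i'.op) := by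
  subst hA hB
  rwa [Subsingleton.elim i' i]

section Immersion

variable {V : Scheme.{u}} (k : V ⟶ X) [IsOpenImmersion k]

theorem map_bij_image_iff {A B : V.Opens} (i : B ⟶ A) :
    Function.Bijective (X.presheaf.map (k.opensFunctor.map i).op) ↔
      Function.Bijective (V.presheaf.map i.op) := by
  have h := k.appIso_inv_naturality i.op
  have hA : Function.Bijective (k.appIso A).inv := (ConcreteCategory.isIso_iff_bijective _).1 inferInstance
  have hB : Function.Bijective (k.appIso B).inv := (ConcreteCategory.isIso_iff_bijective _).1 inferInstance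
  have h' : (k.appIso B).inv ∘ (V.presheaf.map i.op) =
      (X.presheaf.map (k.opensFunctor.map i).op) ∘ (k.appIso A).inv := by
    funext a
    exact ConcreteCategory.congr_hom h a
  rw [← Function.Bijective.of_comp_iff _ hA, ← h', Function.Bijective.of_comp_iff' hB]

theorem image_inf_preimage (A : V.Opens) (U : X.Opens) : k ''ᵁ (A ⊓ k ⁻¹ᵁ U) = (k ''ᵁ A) ⊓ U := by
  ext x
  constructor
  · rintro ⟨a, ⟨ha, hU⟩, rfl⟩; exact ⟨⟨a, ha, rfl⟩, hU⟩
  · rintro ⟨⟨a, ha, rfl⟩, hU⟩; exact ⟨a, ⟨ha, hU⟩, rfl⟩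

theorem rb_preimage {U : X.Opens} (h : RB U) : RB (k ⁻¹ᵁ U) := fun A => by
  rw [← map_bij_image_iff k]
  exact map_bijective_congr h (image_inf_preimage k A U) _

theorem bij_of_rb_preimage {U : X.Opens} (h : RB (k ⁻¹ᵁ U)) {Z : X.Opens} (hZ : Z ≤ k.opensRange) :
    Function.Bijective (X.presheaf.map (homOfLE (inf_le_left : Z ⊓ U ≤ Z)).op) := by
  have e : k ''ᵁ (k ⁻¹ᵁ Z) = Z := by
    rw [Scheme.Hom.image_preimage_eq_opensRange_inf, inf_eq_right.2 hZ]
  exact map_bij_congr e (by rw [image_inf_preimage, e]) ((map_bij_image_iff k _).2 (h (k ⁻¹ᵁ Z))) _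

end Immersion

theorem rb_of_cover {U : X.Opens} {ι : Type*} {V : ι → Scheme.{u}} (k : ∀ i, V i ⟶ X)
    [∀ i, IsOpenImmersion (k i)] (hcov : ∀ x : X, ∃ i, x ∈ (k i).opensRange)
    (h : ∀ i, RB (k i ⁻¹ᵁ U)) : RB U :=
  rb_of_local fun x => by
    obtain ⟨i, hi⟩ := hcov x
    exact ⟨(k i).opensRange, hi, fun Z hZ => bij_of_rb_preimage (k i) (h i) hZ⟩

theorem isInvertible_of_cover {M : X.Modules} {ι : Type*} {V : ι → Scheme.{u}} (k : ∀ i, V i ⟶ X)
    [∀ i, IsOpenImmersion (k i)] (hcov : ∀ x : X, ∃ i, x ∈ (k i).opensRange)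
    (h : ∀ i, PicF.IsInvertible (M.restrict (k i))) : PicF.IsInvertible M := fun x => by
  obtain ⟨i, y, rfl⟩ := hcov x
  obtain ⟨D, g, hy, hg⟩ := Curve17.exists_isGen_of_restrict (k i) M (h i) y
  exact ⟨D, hy, Twist.nonempty_restrict_iso M D g hg⟩

theorem mres_bijective_of_eq (M : X.Modules) {A B : X.Opens} (h : B = A) (i : B ⟶ A) :
    Function.Bijective (M.presheaf.map i.op) := by
  subst h
  rw [Subsingleton.elim i (𝟙 B), op_id, M.presheaf.map_id]
  exact Function.bijective_id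

theorem map_comp_of (M : X.Modules) {A B C : X.Opens} {i : B ⟶ A} {i' : C ⟶ B}
    {f : M.presheaf.obj (op A) ⟶ M.presheaf.obj (op B)} {g : M.presheaf.obj (op B) ⟶ M.presheaf.obj (op C)}
    (hf : f = M.presheaf.map i.op) (hg : g = M.presheaf.map i'.op) :
    f ≫ g = M.presheaf.map (i' ≫ i).op := by
  subst hf hg
  rw [op_comp, M.presheaf.map_comp]

section BaseChange

variable {U V U' V' : Scheme.{u}} (j : U ⟶ V) (j' : U' ⟶ V') (k : V' ⟶ V) (l : U' ⟶ U)
  [IsOpenImmersion j] [IsOpenImmersion j'] [IsOpenImmersion k] [IsOpenImmersion l]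

set_option backward.isDefEq.respectTransparency false in
set_option backward.defeqAttrib.useBackward true in
/-- Base change of direct images along open immersions. -/
theorem nonempty_baseChangeIso (sq : l ≫ j = j' ≫ k) (hr : j ⁻¹ᵁ k.opensRange = l.opensRange) (L : U.Modules) :
    Nonempty (((Scheme.Modules.pushforward j).obj L).restrict k ≅
      (Scheme.Modules.pushforward j').obj (L.restrict l)) := by
  let P := (Scheme.Modules.pushforward j).obj L
  let c : (P.restrict k).restrict j' ⟶ L.restrict l :=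
    (restrictRestrictIso P k j' (l ≫ j) sq.symm).hom ≫ (restrictRestrictIso P j l (l ≫ j) rfl).inv ≫
      (Scheme.Modules.restrictFunctor l).map ((Scheme.Modules.restrictAdjunction j).counit.app L)
  let φ := (Scheme.Modules.restrictAdjunction j').homEquiv _ _ c
  have : IsIso φ := by
    refine Twist.isIso_of_bijective_app _ fun W => ?_
    have e : j ⁻¹ᵁ (k ''ᵁ W) = l ''ᵁ (j' ⁻¹ᵁ W) := by
      ext x
      constructor
      · rintro ⟨w, hw, hwx⟩
        have hx : x ∈ l.opensRange := by rw [← hr]; exact ⟨w, hwx⟩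
        obtain ⟨z, rfl⟩ := hx
        refine ⟨z, ?_, rfl⟩
        have h' : (l ≫ j) z = (j' ≫ k) z := by rw [sq]
        simp only [Scheme.Hom.comp_apply] at h'
        have : w = j' z := k.isOpenEmbedding.injective (hwx.trans h')
        change j' z ∈ W
        exact this ▸ hw
      · rintro ⟨z, hz, rfl⟩
        have h' : (l ≫ j) z = (j' ≫ k) z := by rw [sq]
        simp only [Scheme.Hom.comp_apply] at h'
        exact ⟨j' z, hz, h'.symm⟩
    have hφ : ∃ i : l ''ᵁ (j' ⁻¹ᵁ W) ⟶ j ⁻¹ᵁ (k ''ᵁ W),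
        (φ.app W : L.presheaf.obj (op (j ⁻¹ᵁ (k ''ᵁ W))) ⟶ L.presheaf.obj (op (l ''ᵁ (j' ⁻¹ᵁ W)))) =
          L.presheaf.map i.op := by
      simp only [φ, c, P, Adjunction.homEquiv_unit, Scheme.Modules.Hom.comp_app, Functor.map_comp,
        restrictRestrictIso, Iso.trans_hom, Iso.trans_inv, Iso.symm_hom, Iso.symm_inv, Iso.app_hom, Iso.app_inv]
      exact ⟨_, map_comp_of L rfl (map_comp_of L (map_comp_of L rfl rfl)
        (map_comp_of L (map_comp_of L rfl rfl) rfl))⟩
    obtain ⟨i, hi⟩ := hφ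
    have hb := mres_bijective_of_eq L e.symm i
    rw [← hi] at hb
    exact hb
  exact ⟨asIso φ⟩

end BaseChange

theorem isInvertible_pushforward_of_isIso {T : Scheme.{u}} (e : T ⟶ X) [IsIso e] {L : T.Modules}
    (hL : PicF.IsInvertible L) : PicF.IsInvertible ((Scheme.Modules.pushforward e).obj L) := by
  have htop : e.opensRange = ⊤ := by
    ext x
    exact ⟨fun _ => trivial, fun _ => e.surjective x⟩
  refine isInvertible_pushforward_of_extends e (fun W => ?_) (M2.isInvertible_restrict hL (inv e))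
    (restrictRestrictIso L (inv e) e (𝟙 T) (IsIso.hom_inv_id e) ≪≫ Scheme.Modules.restrictFunctorId.app L)
  exact map_bij_congr (A := W) (B := W) (i := 𝟙 W) rfl (by rw [htop, inf_top_eq])
    (by rw [op_id, X.presheaf.map_id]; exact Function.bijective_id) _

/-- Functions extend and invertible modules extend. -/
def PF (U : X.Opens) : Prop :=
  RB U ∧ ∀ (V : X.Opens) (L : ((V ⊓ U : X.Opens) : Scheme.{u}).Modules), PicF.IsInvertible L →
    PicF.IsInvertible ((Scheme.Modules.pushforward (X.homOfLE (inf_le_left : V ⊓ U ≤ V))).obj L)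

theorem PF.rb_range {U : X.Opens} (h : RB U) (V : X.Opens) :
    RB (X.homOfLE (inf_le_left : V ⊓ U ≤ V)).opensRange := by
  have : (X.homOfLE (inf_le_left : V ⊓ U ≤ V)).opensRange = V.ι ⁻¹ᵁ U := by
    rw [Scheme.opensRange_homOfLE]
    ext x
    exact ⟨fun hx => hx.2, fun hx => ⟨x.2, hx⟩⟩
  rw [this]
  exact rb_preimage V.ι h

theorem PF.pair {Y : Closeds X} (h : PF Y.compl) : ParaF.IsParafactorialPair X Y := fun V =>
  invRestrictEquiv_of _ (PF.rb_range h.1 V) (h.2 V)

theorem pf_of_pair {Y : Closeds X} (h : ParaF.IsParafactorialPair X Y) : PF Y.compl := by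
  have hrb : RB Y.compl := fun V => by
    have hb := bijective_map_top_of_invRestrictEquiv _ (h V)
    refine map_bij_congr (Scheme.Opens.ι_image_top V) ?_
      ((map_bij_image_iff V.ι (homOfLE ((X.homOfLE (inf_le_left : V ⊓ Y.compl ≤ V)).image_preimage_le ⊤))).2 hb) _
    rw [Scheme.Hom.image_preimage_eq_opensRange_inf, inf_top_eq, Scheme.opensRange_homOfLE,
      Scheme.Hom.image_preimage_eq_opensRange_inf, Scheme.Opens.opensRange_ι]
    exact inf_eq_right.2 inf_le_left
  refine ⟨hrb, fun V L hL => ?_⟩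
  obtain ⟨L', hL', ⟨e⟩⟩ := (h V).2 L hL
  exact isInvertible_pushforward_of_extends _ (PF.rb_range hrb V) hL' e

theorem pair_iff (Y : Closeds X) : ParaF.IsParafactorialPair X Y ↔ PF Y.compl := ⟨pf_of_pair, PF.pair⟩

/-- The defining property, for any open immersion. -/
theorem PF.push {U : X.Opens} (h : PF U) {V' U' : Scheme.{u}} (k : V' ⟶ X) [IsOpenImmersion k]
    (j' : U' ⟶ V') [IsOpenImmersion j'] (hr : j'.opensRange = k ⁻¹ᵁ U)
    (L : U'.Modules) (hL : PicF.IsInvertible L) :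
    PicF.IsInvertible ((Scheme.Modules.pushforward j').obj L) := by
  let V := k.opensRange
  have hk : Set.range k = Set.range V.ι := by rw [Scheme.Opens.range_ι]; rfl
  have hl : Set.range (j' ≫ k) = Set.range (V ⊓ U).ι := by
    rw [Scheme.Opens.range_ι]
    change _ = (((V ⊓ U : X.Opens)) : Set X)
    have : (j' ≫ k).opensRange = V ⊓ U := by
      rw [Scheme.Hom.opensRange_comp, hr, Scheme.Hom.image_preimage_eq_opensRange_inf]
    exact congrArg (fun O : X.Opens => (O : Set X)) this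
  let k' := (IsOpenImmersion.isoOfRangeEq k V.ι hk).hom
  let l := (IsOpenImmersion.isoOfRangeEq (j' ≫ k) (V ⊓ U).ι hl).hom
  have sq : l ≫ X.homOfLE (inf_le_left : V ⊓ U ≤ V) = j' ≫ k' := by
    rw [← cancel_mono V.ι, Category.assoc, Category.assoc, Scheme.homOfLE_ι]
    simp [k', l]
  have hr' : X.homOfLE (inf_le_left : V ⊓ U ≤ V) ⁻¹ᵁ k'.opensRange = l.opensRange := by
    have h1 : k'.opensRange = ⊤ := by
      ext x; exact ⟨fun _ => trivial, fun _ => k'.surjective x⟩
    have h2 : l.opensRange = ⊤ := by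
      ext x; exact ⟨fun _ => trivial, fun _ => l.surjective x⟩
    rw [h1, h2]; rfl
  have hL₀ := isInvertible_pushforward_of_isIso l hL
  obtain ⟨e⟩ := nonempty_baseChangeIso (X.homOfLE (inf_le_left : V ⊓ U ≤ V)) j' k' l sq hr'
    ((Scheme.Modules.pushforward l).obj L)
  exact M2.isInvertible_of_iso (e ≪≫ (Scheme.Modules.pushforward j').mapIso (counitIso l L))
    (M2.isInvertible_restrict (h.2 V _ hL₀) k')

theorem PF.preimage {U : X.Opens} (h : PF U) {W : Scheme.{u}} (w : W ⟶ X) [IsOpenImmersion w] :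
    PF (w ⁻¹ᵁ U) :=
  ⟨rb_preimage w h.1, fun V L hL => h.push (V.ι ≫ w) (W.homOfLE inf_le_left) (by
    rw [Scheme.opensRange_homOfLE]
    ext x
    exact ⟨fun hx => hx.2, fun hx => ⟨x.2, hx⟩⟩) L hL⟩

theorem pf_of_cover {U : X.Opens} {ι : Type*} {W : ι → Scheme.{u}} (w : ∀ i, W i ⟶ X)
    [∀ i, IsOpenImmersion (w i)] (hcov : ∀ x : X, ∃ i, x ∈ (w i).opensRange)
    (h : ∀ i, PF (w i ⁻¹ᵁ U)) : PF U := by
  refine ⟨rb_of_cover w hcov fun i => (h i).1, fun V L hL => ?_⟩
  have hr : ∀ i, Set.range ((w i ⁻¹ᵁ V).ι ≫ w i) ⊆ Set.range V.ι := fun i => by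
    rintro _ ⟨z, rfl⟩
    rw [Scheme.Opens.range_ι]
    exact z.2
  refine isInvertible_of_cover (fun i => IsOpenImmersion.lift V.ι _ (hr i)) (fun x => ?_) fun i => ?_
  · obtain ⟨i, y, hy⟩ := hcov x.1
    have hyV : y ∈ w i ⁻¹ᵁ V := by change w i y ∈ V; rw [hy]; exact x.2
    refine ⟨i, ⟨y, hyV⟩, V.ι.isOpenEmbedding.injective ?_⟩
    rw [← Scheme.Hom.comp_apply, IsOpenImmersion.lift_fac]
    exact hy
  · let k := IsOpenImmersion.lift V.ι _ (hr i)
    let j' := (W i).homOfLE (inf_le_left : (w i ⁻¹ᵁ V) ⊓ (w i ⁻¹ᵁ U) ≤ w i ⁻¹ᵁ V)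
    have hr2 : Set.range (((w i ⁻¹ᵁ V) ⊓ (w i ⁻¹ᵁ U)).ι ≫ w i) ⊆ Set.range (V ⊓ U).ι := by
      rintro _ ⟨z, rfl⟩
      rw [Scheme.Opens.range_ι]
      exact ⟨z.2.1, z.2.2⟩
    let l := IsOpenImmersion.lift (V ⊓ U).ι _ hr2
    have sq : l ≫ X.homOfLE (inf_le_left : V ⊓ U ≤ V) = j' ≫ k := by
      rw [← cancel_mono V.ι, Category.assoc, Category.assoc, Scheme.homOfLE_ι, IsOpenImmersion.lift_fac,
        IsOpenImmersion.lift_fac, ← Category.assoc, Scheme.homOfLE_ι]
    have hr' : X.homOfLE (inf_le_left : V ⊓ U ≤ V) ⁻¹ᵁ k.opensRange = l.opensRange := by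
      ext x
      constructor
      · rintro ⟨y, hy⟩
        have hy1 : w i y.1 = x.1 := by
          have h1 : (k ≫ V.ι) y = x.1 := by
            rw [Scheme.Hom.comp_apply, hy]; exact Scheme.homOfLE_apply _ x
          rw [IsOpenImmersion.lift_fac] at h1
          exact h1
        refine ⟨⟨y.1, y.2, by change w i y.1 ∈ U; rw [hy1]; exact x.2.2⟩, (V ⊓ U).ι.isOpenEmbedding.injective ?_⟩
        rw [← Scheme.Hom.comp_apply, IsOpenImmersion.lift_fac]
        exact hy1
      · rintro ⟨z, rfl⟩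
        exact ⟨j' z, by rw [← Scheme.Hom.comp_apply, ← sq]; rfl⟩
    obtain ⟨e⟩ := nonempty_baseChangeIso (X.homOfLE (inf_le_left : V ⊓ U ≤ V)) j' k l sq hr' L
    exact M2.isInvertible_of_iso e.symm ((h i).2 _ _ (M2.isInvertible_restrict hL l))

theorem PF.mono {U U' : X.Opens} (h : PF U) (hle : U ≤ U') : PF U' := by
  have hrb : RB U' := fun W => by
    have h1 := h.1 W
    have h2 := map_bijective_congr h.1 (W := W ⊓ U') (Z := W ⊓ U)
      (by rw [inf_assoc, inf_eq_right.2 hle]) (homOfLE (inf_le_inf_left W hle))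
    refine (Function.Bijective.of_comp_iff' h2 _).1 ?_
    rw [show (homOfLE (inf_le_left : W ⊓ U ≤ W)).op = (homOfLE (inf_le_left : W ⊓ U' ≤ W)).op ≫
      (homOfLE (inf_le_inf_left W hle)).op from Subsingleton.elim _ _, X.presheaf.map_comp] at h1
    exact h1
  refine ⟨hrb, fun V L' hL' => ?_⟩
  let i := X.homOfLE (inf_le_inf_left V hle)
  let j := X.homOfLE (inf_le_left : V ⊓ U ≤ V)
  let j' := X.homOfLE (inf_le_left : V ⊓ U' ≤ V)
  let E := (Scheme.Modules.pushforward j).obj (L'.restrict i)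
  have hE : PicF.IsInvertible E := h.2 V _ (M2.isInvertible_restrict hL' i)
  have hi : RB i.opensRange := by
    have : i.opensRange = (V ⊓ U').ι ⁻¹ᵁ U := by
      rw [Scheme.opensRange_homOfLE]
      ext x
      exact ⟨fun hx => hx.2, fun hx => ⟨x.2.1, hx⟩⟩
    rw [this]
    exact rb_preimage _ h.1
  obtain ⟨e⟩ := nonempty_iso_of_restrict i hi (M2.isInvertible_restrict hE j') hL'
    (restrictRestrictIso E j' i j (Scheme.homOfLE_homOfLE ..) ≪≫ counitIso j _)
  exact isInvertible_pushforward_of_extends j' (PF.rb_range hrb V) hE e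

end Groth.Agent.ParaF27
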