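import Groth.Agent.Lib.ParaF27.Hartogs

/-!
# Parafactorial local rings
-/

set_option autoImplicit false

universe u

open CategoryTheory AlgebraicGeometry TopologicalSpace IsLocalRing

namespace Groth.Agent.ParaF27

open Groth.Agent.M1

theorem nonempty_iso_structure_of_restrict_isIso {X T : Scheme.{u}} (l : T ⟶ X) [IsIso l] (L : X.Modules)
    (e : L.restrict l ≅ Coh.structureModule T) : Nonempty (L ≅ Coh.structureModule X) :=
  ⟨(Scheme.Modules.restrictFunctorId.app L).symm ≪≫
    (restrictRestrictIso L l (inv l) (𝟙 X) (IsIso.inv_hom_id l)).symm ≪≫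
    (Scheme.Modules.restrictFunctor (inv l)).mapIso e ≪≫ Scheme.Modules.restrictUnitIso _⟩

theorem isIso_homOfLE_of_le {X : Scheme.{u}} {A B : X.Opens} (h : A ≤ B) (h' : B ≤ A) : IsIso (X.homOfLE h) :=
  ⟨X.homOfLE h', by simp, by simp⟩

variable (A : Type u) [CommRing A] [IsLocalRing A]

theorem picTrivial_punctured_of_ufd [IsDomain A] [UniqueFactorizationMonoid A] :
    ParaF.PicTrivial (FEt.puncturedSpec A : Scheme.{u}) := by
  intro L hL
  let X := Spec (CommRingCat.of A)
  let e : Γ(X, ⊤) ≃+* A := (Scheme.ΓSpecIso (CommRingCat.of A)).commRingCatIsoToRingEquiv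
  have : IsDomain Γ(X, ⊤) := MulEquiv.isDomain A e.toMulEquiv
  have : UniqueFactorizationMonoid Γ(X, ⊤) := e.symm.toMulEquiv.uniqueFactorizationMonoid inferInstance
  exact Curve17.nonempty_iso_structureModule_of_ufd (X := X) (isAffineOpen_top _) _ L hL

/-- The complement of the closed point. -/
theorem compl_closedPoint :
    (⟨{closedPoint A}, isClosed_singleton_closedPoint A⟩ : Closeds (Spec (CommRingCat.of A))).compl =
      FEt.puncturedSpec A := rfl

theorem isParafactorialLocalRing_iff :
    ParaF.IsParafactorialLocalRing A ↔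
      (Function.Bijective ((Spec (CommRingCat.of A)).presheaf.map
          (homOfLE (le_top : FEt.puncturedSpec A ≤ ⊤)).op) ∧
        ParaF.PicTrivial (FEt.puncturedSpec A : Scheme.{u})) := by
  let X := Spec (CommRingCat.of A)
  let U : X.Opens := FEt.puncturedSpec A
  rw [show ParaF.IsParafactorialLocalRing A ↔ PF U from pair_iff _]
  constructor
  · intro h
    refine ⟨map_bij_congr rfl (top_inf_eq U) (h.1 ⊤) _, fun L hL => ?_⟩
    have hM := h.push (𝟙 X) U.ι (by rw [Scheme.Opens.opensRange_ι]; rfl) L hL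
    obtain ⟨D, hD, ⟨e⟩⟩ := hM (closedPoint A)
    obtain rfl := eq_top_of_closedPoint_mem A D hD
    obtain ⟨e'⟩ := M2.nonempty_trivial_mono (le_top : U ≤ ⊤) e
    exact ⟨(counitIso U.ι L).symm ≪≫ e'⟩
  · rintro ⟨hb, hpic⟩
    have hW : ∀ W : X.Opens, W = ⊤ ∨ W ⊓ U = W := fun W => by
      by_cases hc : closedPoint A ∈ W
      · exact .inl (eq_top_of_closedPoint_mem A W hc)
      · exact .inr (inf_eq_left.2 fun x hx hx' => hc (Set.mem_singleton_iff.1 hx' ▸ hx))
    have hrb : RB U := fun W => by
      rcases hW W with rfl | e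
      · exact map_bij_congr rfl (top_inf_eq U).symm hb _
      · exact map_bij_congr (A := W) (B := W) (i := 𝟙 W) rfl e.symm
          (by rw [op_id, X.presheaf.map_id]; exact Function.bijective_id) _
    refine ⟨hrb, fun V L hL => ?_⟩
    rcases hW V with rfl | e
    · have : IsIso (X.homOfLE (le_inf le_top le_rfl : U ≤ ⊤ ⊓ U)) := isIso_homOfLE_of_le _ inf_le_right
      obtain ⟨i⟩ := hpic _ (M2.isInvertible_restrict hL (X.homOfLE (le_inf le_top le_rfl : U ≤ ⊤ ⊓ U)))
      obtain ⟨i'⟩ := nonempty_iso_structure_of_restrict_isIso _ L i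
      exact isInvertible_pushforward_of_extends _ (PF.rb_range hrb ⊤) (PicLoc.isInvertible_structureModule _)
        (Scheme.Modules.restrictUnitIso _ ≪≫ i'.symm)
    · have : IsIso (X.homOfLE (inf_le_left : V ⊓ U ≤ V)) := isIso_homOfLE_of_le _ e.ge
      exact isInvertible_pushforward_of_isIso _ hL

theorem isParafactorialLocalRing_of_ufd [IsDomain A] [IsNoetherianRing A] [UniqueFactorizationMonoid A]
    (hdim : (2 : WithBot ℕ∞) ≤ ringKrullDim A) : ParaF.IsParafactorialLocalRing A :=
  (isParafactorialLocalRing_iff A).2 ⟨bijective_punctured_of_ufd A hdim, picTrivial_punctured_of_ufd A⟩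

end Groth.Agent.ParaF27
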