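import Groth.Agent.Lib.ParaF27.LocalRing
import Groth.Agent.Lib.Twist.LocGen
import Groth.Agent.Lib.Twist.UniversalExist
import Mathlib.RingTheory.UniqueFactorizationDomain.Kaplansky
import Mathlib.RingTheory.Ideal.KrullsHeightTheorem
import Mathlib.GroupTheory.MonoidLocalization.UniqueFactorization

/-!
# Factoriality from triviality of invertible modules on the punctured spectrum
-/

set_option autoImplicit false

universe u

open CategoryTheory AlgebraicGeometry TopologicalSpace Opposite IsLocalRing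

namespace Groth.Agent.ParaF27

open Groth.Agent.M1

theorem exists_isGen_of_iso {X : Scheme.{u}} {L : X.Modules} {D : X.Opens}
    (ι : L.restrict D.ι ≅ Coh.structureModule (D : Scheme.{u})) : ∃ g : Γ(L, D), Twist.IsGen L D g := by
  have himg : D.ι ''ᵁ ⊤ = D := by simp
  let g' : Γ(L.restrict D.ι, ⊤) := ι.inv.app ⊤ (one ⊤)
  refine ⟨mres L himg.ge g', fun V hV => ?_⟩
  obtain ⟨W, rfl⟩ : ∃ W : (D : Scheme.{u}).Opens, D.ι ''ᵁ W = V :=
    ⟨D.ι ⁻¹ᵁ V, by rw [Scheme.Hom.image_preimage_eq_opensRange_inf, Scheme.Opens.opensRange_ι, inf_eq_right.2 hV]⟩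
  have hb : Function.Bijective (ι.inv.app W) := (ConcreteCategory.isIso_iff_bijective _).1 inferInstance
  have key : ∀ r : Γ(X, D.ι ''ᵁ W), r • mres L hV (mres L himg.ge g') =
      ι.inv.app W ((D.ι.appIso W).hom r : Γ(Coh.structureModule (D : Scheme.{u}), W)) := fun r => by
    rw [show mres L hV (mres L himg.ge g') = mres L (D.ι.image_mono (le_top : W ≤ ⊤)) g' from mres_mres L himg.ge hV _,
      show ((D.ι.appIso W).hom r : Γ(Coh.structureModule (D : Scheme.{u}), W)) = (D.ι.appIso W).hom r • one W from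
      (mul_one _).symm, Scheme.Modules.Hom.app_smul, ← mres_one (le_top : W ≤ ⊤), app_mres]
    show _ = ((D.ι.appIso W).inv ((D.ι.appIso W).hom r) : Γ(X, D.ι ''ᵁ W)) • mres L (Scheme.Hom.image_mono _ le_top) g'
    rw [Iso.hom_inv_id_apply]
  simp only [key]
  exact hb.comp ((ConcreteCategory.isIso_iff_bijective (D.ι.appIso W).hom).1 inferInstance)

section tilde

variable {R : CommRingCat.{u}} (N : ModuleCat.{u} R)

theorem mres_smul_R {U V : (Spec R).Opens} (h : V ≤ U) (r : R) (x : Γ(tilde N, U)) :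
    mres (tilde N) h (r • x) = r • mres (tilde N) h x :=
  Scheme.Modules.map_smul_Spec (homOfLE h).op r x

theorem mres_toOpen {U V : (Spec R).Opens} (h : V ≤ U) (x : N) :
    mres (tilde N) h ((tilde.toOpen N U).hom x) = (tilde.toOpen N V).hom x :=
  ConcreteCategory.congr_hom (tilde.toOpen_res N U V (homOfLE h)) x

/-- An element of `N` that generates freely away from `r` generates `tilde N` on `D(r)`. -/
theorem isGen_tilde_of_locGen {q : N} {r : R} (h : Twist.LocGen q r) :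
    Twist.IsGen (tilde N) (bo r) ((tilde.toOpen N (bo r)).hom q) := by
  let q' : Γ(tilde N, (⊤ : (Spec R).Opens)) := (tilde.toOpen N ⊤).hom q
  let r' : Γ(Spec R, ⊤) := (Scheme.ΓSpecIso R).inv r
  have hbij : Function.Bijective (tilde.toOpen N ⊤).hom :=
    (ConcreteCategory.isIso_iff_bijective (tilde.toOpen N ⊤)).1 inferInstance
  have hsmul : ∀ (c : Γ(Spec R, ⊤)) (y : Γ(tilde N, (⊤ : (Spec R).Opens))), c • y = (Scheme.ΓSpecIso R).hom c • y := fun c y => by
    rw [Scheme.Modules.smul_Spec_def, Iso.hom_inv_id_apply,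
      show (⊤ : (Spec R).Opens).leTop = 𝟙 _ from Subsingleton.elim _ _, op_id, (Spec R).presheaf.map_id]
    rfl
  have h' : Twist.LocGen (R := Γ(Spec R, ⊤)) (M := Γ(tilde N, (⊤ : (Spec R).Opens))) q' r' := by
    refine ⟨fun y => ?_, fun c hc => ?_⟩
    · obtain ⟨x, rfl⟩ := hbij.2 y
      obtain ⟨n, c, hnc⟩ := h.1 x
      refine ⟨n, (Scheme.ΓSpecIso R).inv c, ?_⟩
      rw [hsmul, hsmul ((Scheme.ΓSpecIso R).inv c), ← map_pow, Iso.inv_hom_id_apply, Iso.inv_hom_id_apply]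
      exact ((map_smul _ _ _).symm.trans (congrArg _ hnc)).trans (map_smul _ _ _)
    · rw [hsmul] at hc
      have h0 : (Scheme.ΓSpecIso R).hom c • q = 0 := hbij.1 ((map_smul _ _ _).trans (hc.trans (map_zero _).symm))
      obtain ⟨n, hn⟩ := h.2 _ h0
      exact ⟨n, (Scheme.ΓSpecIso R).commRingCatIsoToRingEquiv.injective (by
        show (Scheme.ΓSpecIso R).hom (r' ^ n * c) = (Scheme.ΓSpecIso R).hom 0
        rw [map_mul, map_pow, Iso.inv_hom_id_apply, hn, map_zero])⟩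
  have e : (Spec R).basicOpen r' = bo r := basicOpen_eq_of_affine r
  have h2 := (Twist.isGen_of_locGen (tilde N) (isAffineOpen_top _) h').mres e.ge
  rwa [mres_mres, mres_toOpen] at h2

/-- `toOpen` with values in sections. -/
noncomputable def toΓ (U : (Spec R).Opens) : N →ₗ[R] Γ(tilde N, U) := (tilde.toOpen N U).hom

instance (g : R) : IsLocalizedModule (.powers g) (toΓ N (bo g)) :=
  inferInstanceAs (IsLocalizedModule.Away g (tilde.toOpen N (bo g)).hom)

theorem mres_toΓ {U V : (Spec R).Opens} (h : V ≤ U) (x : N) :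
    mres (tilde N) h (toΓ N U x) = toΓ N V x :=
  mres_toOpen N h x

theorem exists_gen_of_isGen {U : (Spec R).Opens} {τ : Γ(tilde N, U)} (hτ : Twist.IsGen (tilde N) U τ)
    {g : R} (hg : bo g ≤ U) :
    ∃ (u : N) (n : ℕ), g ^ n • mres (tilde N) hg τ = toΓ N (bo g) u ∧
      ∀ x : N, ∃ (k : ℕ) (c : R), g ^ k • x = c • u := by
  let L := toΓ N (bo g)
  obtain ⟨⟨u, ⟨_, n, rfl⟩⟩, hu⟩ := IsLocalizedModule.surj (.powers g) L (mres (tilde N) hg τ)
  change g ^ n • mres (tilde N) hg τ = L u at hu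
  refine ⟨u, n, hu, fun x => ?_⟩
  obtain ⟨r, hr⟩ := (hτ (bo g) hg).2 (L x)
  change r • mres (tilde N) hg τ = L x at hr
  obtain ⟨⟨c, ⟨_, m, rfl⟩⟩, hc⟩ := IsLocalization.surj (Submonoid.powers g) r
  change r * algebraMap R _ (g ^ m) = algebraMap R _ c at hc
  have h1 : g ^ (m + n) • L x = c • L u := by
    rw [← hu, ← hr, ← IsScalarTower.algebraMap_smul Γ(Spec R, bo g) (g ^ (m + n)),
      ← IsScalarTower.algebraMap_smul Γ(Spec R, bo g) c, ← IsScalarTower.algebraMap_smul Γ(Spec R, bo g) (g ^ n),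
      ← mul_smul, ← mul_smul, ← hc, pow_add, map_mul]
    congr 1
    ring
  rw [← map_smul, ← map_smul] at h1
  obtain ⟨⟨_, k, rfl⟩, hk⟩ := (IsLocalizedModule.eq_iff_exists (.powers g) L).1 h1
  exact ⟨k + (m + n), g ^ k * c, by rw [pow_add, mul_smul, mul_smul]; exact hk⟩

theorem compare_gen {U : (Spec R).Opens} {τ : Γ(tilde N, U)} {g g' : R} (hg : bo g ≤ U) (hg' : bo g' ≤ U)
    {m n : ℕ} {w u : N} (hw : g ^ m • mres (tilde N) hg τ = toΓ N (bo g) w)
    (hu : g' ^ n • mres (tilde N) hg' τ = toΓ N (bo g') u) :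
    ∃ k : ℕ, (g * g') ^ k • g ^ m • u = (g * g') ^ k • g' ^ n • w := by
  have l₁ : bo (g * g') ≤ bo g := PrimeSpectrum.basicOpen_mul_le_left g g'
  have l₂ : bo (g * g') ≤ bo g' := PrimeSpectrum.basicOpen_mul_le_right g g'
  have h1 : g ^ m • mres (tilde N) (l₂.trans hg') τ = toΓ N (bo (g * g')) w := by
    rw [← mres_toΓ N l₁, ← hw, mres_smul_R, mres_mres]
  have h2 : g' ^ n • mres (tilde N) (l₂.trans hg') τ = toΓ N (bo (g * g')) u := by
    rw [← mres_toΓ N l₂, ← hu, mres_smul_R, mres_mres]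
  have h3 : toΓ N (bo (g * g')) (g ^ m • u) = toΓ N (bo (g * g')) (g' ^ n • w) := by
    rw [map_smul, map_smul, ← h1, ← h2, smul_comm]
  obtain ⟨⟨_, k, rfl⟩, hk⟩ := (IsLocalizedModule.eq_iff_exists (.powers (g * g')) (toΓ N (bo (g * g')))).1 h3
  exact ⟨k, hk⟩

end tilde

variable (A : Type u) [CommRing A] [IsDomain A]

/-- Divisibility in `A` can be checked on the open `U`. -/
def DvdOn (U : (Spec (CommRingCat.of A)).Opens) : Prop :=
  ∀ x a : A, a ≠ 0 → (∀ p : PrimeSpectrum A, p ∈ U → ∃ s ∉ p.asIdeal, a ∣ s * x) → a ∣ x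

/-- Divisibility in `A` after inverting `h` can be checked on the open `U`. -/
def DvdAway (h : A) (U : (Spec (CommRingCat.of A)).Opens) : Prop :=
  ∀ x a : A, a ≠ 0 → (∀ p : PrimeSpectrum A, p ∈ U → ∃ s ∉ p.asIdeal, a ∣ s * x) → ∃ k : ℕ, a ∣ h ^ k * x

variable (U : (Spec (CommRingCat.of A)).Opens)

/-- The module of an ideal that is principal at every point of `U` is invertible on `U`. -/
theorem isInvertible_tilde_restrict (P : Ideal A)
    (hloc : ∀ p : PrimeSpectrum A, p ∈ U → ∃ b ∈ P, b ≠ 0 ∧ ∃ f ∉ p.asIdeal, ∀ x ∈ P, ∃ c, f * x = c * b) :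
    PicF.IsInvertible ((tilde (R := CommRingCat.of A) (ModuleCat.of A P)).restrict U.ι) := by
  let R := CommRingCat.of A
  let N : ModuleCat.{u} R := ModuleCat.of R P
  let M := tilde N
  show PicF.IsInvertible (M.restrict U.ι)
  refine Twist.isInvertible_restrict M U.ι fun y => ?_
  obtain ⟨b, hbP, hb0, f, hf, hfP⟩ := hloc (U.ι y) y.2
  refine ⟨bo (R := R) f, hf, Twist.nonempty_restrict_iso M _ _
    (isGen_tilde_of_locGen N (q := (⟨b, hbP⟩ : P)) (r := f) ⟨fun x => ?_, fun c hc => ⟨0, ?_⟩⟩)⟩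
  · obtain ⟨c, hc⟩ := hfP _ (x : P).2
    exact ⟨1, c, Subtype.ext (show f ^ 1 * _ = c * b by rw [pow_one]; exact hc)⟩
  · have hc' : c * b = 0 := congrArg Subtype.val hc
    simp only [pow_zero, one_mul]
    exact (mul_eq_zero.1 hc').resolve_right hb0

theorem exists_generator_away (h₁ : A) (H : DvdAway A h₁ U) (P : Ideal A) [P.IsPrime] (hP0 : P ≠ ⊥)
    (hPm : (⟨P, ‹_›⟩ : PrimeSpectrum A) ∈ U)
    (hgen : ∃ τ : Γ(tilde (R := CommRingCat.of A) (ModuleCat.of A P), U),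
      Twist.IsGen (tilde (R := CommRingCat.of A) (ModuleCat.of A P)) U τ) :
    ∃ a ∈ P, ∀ x ∈ P, ∃ k, a ∣ h₁ ^ k * x := by
  let R := CommRingCat.of A
  let N : ModuleCat.{u} R := ModuleCat.of R P
  let M := tilde N
  obtain ⟨τ, hτ⟩ := hgen
  have hmem : ∀ p : PrimeSpectrum A, p ∈ U → ∃ g ∉ p.asIdeal, bo (R := R) g ≤ U := by
    intro p hpm
    obtain ⟨V, ⟨g, rfl⟩, hgV, hVU⟩ := Opens.isBasis_iff_nbhd.mp (isBasis_bo (R := R))
      hpm
    exact ⟨g, hgV, hVU⟩
  obtain ⟨g₀, hg₀, hg₀U⟩ := hmem ⟨P, ‹_›⟩ hPm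
  obtain ⟨u, n, hu, hgen₀⟩ := exists_gen_of_isGen N hτ hg₀U
  have hg₀0 : g₀ ≠ 0 := fun h => hg₀ (h ▸ P.zero_mem)
  set v := g₀ ^ n with hv
  have hv0 : v ≠ 0 := pow_ne_zero _ hg₀0
  have hu0 : (u : P).1 ≠ 0 := by
    obtain ⟨x, hxP, hx0⟩ := Submodule.exists_mem_ne_zero_of_ne_bot hP0
    obtain ⟨k, c, hc⟩ := hgen₀ (⟨x, hxP⟩ : P)
    intro h
    have hc' : g₀ ^ k * x = c * (u : P).1 := congrArg Subtype.val hc
    rw [h, mul_zero] at hc'
    exact mul_ne_zero (pow_ne_zero k hg₀0) hx0 hc'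
  -- comparison at a point of the punctured spectrum
  have key : ∀ p : PrimeSpectrum A, p ∈ U → ∃ g ∉ p.asIdeal, ∃ (m : ℕ) (w : P),
      g ^ m * (u : P).1 = v * (w : A) ∧ ∀ x ∈ P, ∃ k c, g ^ k * x = c * (w : A) := by
    intro p hpm
    obtain ⟨g, hg, hgU⟩ := hmem p hpm
    obtain ⟨w, m, hw, hgen⟩ := exists_gen_of_isGen N hτ hgU
    refine ⟨g, hg, m, w, ?_, fun x hx => ?_⟩
    swap
    · obtain ⟨k, c, hc⟩ := hgen (⟨x, hx⟩ : P)
      exact ⟨k, c, congrArg Subtype.val hc⟩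
    have hgg : g * g₀ ≠ 0 := mul_ne_zero (fun h => hg (h ▸ p.asIdeal.zero_mem)) hg₀0
    obtain ⟨k, hk⟩ := compare_gen N hgU hg₀U hw hu
    exact mul_left_cancel₀ (pow_ne_zero k hgg) (congrArg Subtype.val hk)
  obtain ⟨k₁, a, ha⟩ := H (u : P).1 v hv0 fun p hpm => by
    obtain ⟨g, hg, m, w, hgw, -⟩ := key p hpm
    exact ⟨g ^ m, fun h => hg (p.isPrime.mem_of_pow_mem m h), ⟨w, hgw⟩⟩
  have haP : a ∈ P := by
    obtain ⟨g, hg, m, w, hgw, -⟩ := key ⟨P, ‹_›⟩ hPm
    have : g ^ m * a = h₁ ^ k₁ * (w : A) := mul_left_cancel₀ hv0 (by linear_combination (g ^ m) * ha.symm + h₁ ^ k₁ * hgw)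
    exact ((Ideal.IsPrime.mem_or_mem ‹_› (this ▸ P.mul_mem_left _ w.2 : g ^ m * a ∈ P))).resolve_left
      fun h => hg (Ideal.IsPrime.mem_of_pow_mem ‹_› m h)
  refine ⟨a, haP, fun x hx => ?_⟩
  obtain ⟨k₂, d, hd⟩ := H (v * x) _ hu0 fun p hpm => by
    obtain ⟨g, hg, m, w, hgw, hgen⟩ := key p hpm
    obtain ⟨k, c, hc⟩ := hgen x hx
    refine ⟨g ^ k, fun h => hg (p.isPrime.mem_of_pow_mem k h), g ^ m * c, ?_⟩
    linear_combination v * hc + (-c) * hgw
  exact ⟨k₁ + k₂, d, mul_left_cancel₀ hv0 (by linear_combination (h₁ ^ k₁) * hd + d * ha)⟩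

theorem isPrincipal_of_gen (H : DvdOn A U) (P : Ideal A) [P.IsPrime] (hP0 : P ≠ ⊥)
    (hPm : (⟨P, ‹_›⟩ : PrimeSpectrum A) ∈ U)
    (hgen : ∃ τ : Γ(tilde (R := CommRingCat.of A) (ModuleCat.of A P), U),
      Twist.IsGen (tilde (R := CommRingCat.of A) (ModuleCat.of A P)) U τ) :
    P.IsPrincipal := by
  obtain ⟨a, ha, hdvd⟩ := exists_generator_away A U 1 (fun x a ha h => ⟨0, by simpa using H x a ha h⟩) P hP0 hPm hgen
  refine ⟨a, le_antisymm (fun x hx => Ideal.mem_span_singleton.2 ?_) ((Ideal.span_singleton_le_iff_mem P).2 ha)⟩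
  obtain ⟨k, hk⟩ := hdvd x hx
  simpa using hk

variable [IsNoetherianRing A]

omit U in
theorem exists_local_generator (P : Ideal A) [P.IsPrime] (hP : P.height = 1) (p : Ideal A) [p.IsPrime]
    [UniqueFactorizationMonoid (Localization.AtPrime p)] :
    ∃ b ∈ P, b ≠ 0 ∧ ∃ f ∉ p, ∀ x ∈ P, ∃ c, f * x = c * b := by
  have hP0 : P ≠ ⊥ := fun h => by rw [h, Ideal.height_bot] at hP; exact zero_ne_one hP
  by_cases hPp : P ≤ p
  swap
  · obtain ⟨b, hb, hbp⟩ := Set.not_subset.1 hPp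
    exact ⟨b, hb, fun h => hbp (h ▸ p.zero_mem), b, hbp, fun x _ => ⟨x, mul_comm _ _⟩⟩
  let S := Localization.AtPrime p
  let φ := algebraMap A S
  have hdisj : Disjoint (p.primeCompl : Set A) (P : Set A) := Set.disjoint_left.2 fun x hx hx' => hx (hPp hx')
  have hQ : (P.map φ).IsPrime := IsLocalization.isPrime_of_isPrime_disjoint p.primeCompl S P ‹_› hdisj
  have hQh : (P.map φ).height = 1 := by rw [IsLocalization.height_map_of_disjoint p.primeCompl P hdisj, hP]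
  have hQ0 : P.map φ ≠ ⊥ := fun h => by rw [h, Ideal.height_bot] at hQh; exact zero_ne_one hQh
  obtain ⟨π, hπQ, hπ⟩ := hQ.exists_mem_prime_of_ne_bot hQ0
  have hπp : (Ideal.span {π}).IsPrime := (Ideal.span_singleton_prime hπ.ne_zero).2 hπ
  have hQeq : Ideal.span {π} = P.map φ := by
    rcases (show Ideal.span {π} ≤ P.map φ from (Ideal.span_singleton_le_iff_mem _).2 hπQ).eq_or_lt with h | h
    · exact h
    · exfalso
      have := Ideal.height_strict_mono_of_isPrime h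
      rw [hQh, Order.lt_one_iff, Ideal.height_eq_zero_iff_eq_bot] at this
      exact hπ.ne_zero (Ideal.span_singleton_eq_bot.1 this)
  obtain ⟨⟨⟨b, hb⟩, t⟩, hbt⟩ := (IsLocalization.mem_map_algebraMap_iff p.primeCompl S).1 hπQ
  have hb0 : b ≠ 0 := fun h => by
    simp only [h, map_zero, mul_eq_zero] at hbt
    exact hbt.elim hπ.ne_zero fun h' => (IsLocalization.map_units S t).ne_zero h'
  refine ⟨b, hb, hb0, ?_⟩
  have hx : ∀ x ∈ P, ∃ f ∉ p, b ∣ f * x := fun x hxP => by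
    obtain ⟨d, hd⟩ := Ideal.mem_span_singleton.1 (hQeq.ge (Ideal.mem_map_of_mem φ hxP))
    obtain ⟨⟨c, s⟩, hcs⟩ := IsLocalization.surj p.primeCompl d
    have : φ (x * s * t) = φ (b * c) := by
      simp only [map_mul] at hcs ⊢
      rw [hd, ← hbt, ← hcs]; ring
    obtain ⟨w, hw⟩ := (IsLocalization.eq_iff_exists p.primeCompl S).1 this
    exact ⟨w * (s * t), (p.primeCompl.mul_mem w.2 (p.primeCompl.mul_mem s.2 t.2)), (w : A) * c, by
      rw [show (w : A) * (s * t) * x = w * (x * s * t) by ring, hw]; ring⟩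
  obtain ⟨G, hG⟩ := IsNoetherian.noetherian (R := A) P
  choose f hf hfd using hx
  classical
  let F : A := ∏ y ∈ G.attach, f y.1 (hG.le (Submodule.subset_span y.2))
  refine ⟨F, prod_mem (S := p.primeCompl) fun y _ => hf _ _, fun x hxP => ?_⟩
  have : P ≤ Submodule.comap (LinearMap.mulLeft A F) (Ideal.span {b}) := by
    rw [← hG]
    refine Submodule.span_le.2 fun y hy => Ideal.mem_span_singleton.2 ((hfd y (hG.le (Submodule.subset_span hy))).trans ?_)
    exact mul_dvd_mul_right (Finset.dvd_prod_of_mem (fun z : {z // z ∈ G} => f z.1 _) (Finset.mem_attach G ⟨y, hy⟩)) y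
  obtain ⟨c, hc⟩ := Ideal.mem_span_singleton.1 (this hxP)
  exact ⟨c, by rw [mul_comm c b]; exact hc⟩

omit U in
theorem ufd_of_height_one (h : ∀ (Q : Ideal A) [Q.IsPrime], Q.height = 1 → Q.IsPrincipal) :
    UniqueFactorizationMonoid A := by
  refine UniqueFactorizationMonoid.iff_exists_prime_mem_of_isPrime.2 fun I hI hIp => ?_
  obtain ⟨x, hxI, hx0⟩ := Submodule.exists_mem_ne_zero_of_ne_bot hI
  obtain ⟨Q, hQmin, hQI⟩ := Ideal.exists_minimalPrimes_le ((Ideal.span_singleton_le_iff_mem I).2 hxI)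
  have hQp : Q.IsPrime := hQmin.1.1
  have hQ0 : Q ≠ ⊥ := fun h => hx0 ((Ideal.mem_bot).1 (h ▸ hQmin.1.2 (Ideal.mem_span_singleton_self x)))
  have hQh : Q.height = 1 := le_antisymm (Ideal.height_le_one_of_isPrincipal_of_mem_minimalPrimes _ _ hQmin)
    (Order.one_le_iff_ne_zero.2 fun h => hQ0 (Ideal.height_eq_zero_iff_eq_bot.1 h))
  obtain ⟨π, hπ⟩ := h Q hQh
  replace hπ : Q = Ideal.span {π} := hπ
  have hπ0 : π ≠ 0 := fun h => hQ0 (hπ.trans (Ideal.span_singleton_eq_bot.2 h))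
  exact ⟨π, hQI (hπ ▸ Ideal.mem_span_singleton_self π), (Ideal.span_singleton_prime hπ0).1 (hπ ▸ hQp)⟩

omit U [IsDomain A] [IsNoetherianRing A] in
theorem mem_puncturedSpec_iff [IsLocalRing A] {p : PrimeSpectrum A} :
    (p : Spec (CommRingCat.of A)) ∈ FEt.puncturedSpec A ↔ p.asIdeal ≠ maximalIdeal A :=
  ⟨fun h e => h (PrimeSpectrum.ext e), fun h e => h (congrArg PrimeSpectrum.asIdeal (Set.mem_singleton_iff.1 e))⟩

omit U in
theorem ufd_of_picTrivial [IsLocalRing A] (hdim : (2 : WithBot ℕ∞) ≤ ringKrullDim A)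
    (hpic : ParaF.PicTrivial (FEt.puncturedSpec A : Scheme.{u})) (H : DvdOn A (FEt.puncturedSpec A))
    (hufd : ∀ (p : Ideal A) [p.IsPrime], p ≠ maximalIdeal A → UniqueFactorizationMonoid (Localization.AtPrime p)) :
    UniqueFactorizationMonoid A := by
  refine ufd_of_height_one A fun Q _ hQh => ?_
  have hQm : Q ≠ maximalIdeal A := fun h => by
    have h2 := hdim.trans_eq IsLocalRing.maximalIdeal_height_eq_ringKrullDim.symm
    rw [← h, hQh] at h2
    exact absurd h2 (by decide)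
  have hQ0 : Q ≠ ⊥ := fun h => by rw [h, Ideal.height_bot] at hQh; exact zero_ne_one hQh
  obtain ⟨e⟩ := hpic _ (isInvertible_tilde_restrict A _ Q fun p hp =>
    haveI := hufd p.asIdeal ((mem_puncturedSpec_iff A).1 hp)
    exists_local_generator A Q hQh p.asIdeal)
  exact isPrincipal_of_gen A _ H Q hQ0 ((mem_puncturedSpec_iff A (p := ⟨Q, _⟩)).2 hQm) (exists_isGen_of_iso e)

end Groth.Agent.ParaF27

namespace Groth.Agent.ParaF27

theorem ufd_localization_of_stalk (A : Type u) [CommRing A] (p : Spec (CommRingCat.of A))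
    [IsDomain ((Spec (CommRingCat.of A)).presheaf.stalk p)]
    (h : UniqueFactorizationMonoid ((Spec (CommRingCat.of A)).presheaf.stalk p)) :
    IsDomain (Localization.AtPrime p.asIdeal) ∧ UniqueFactorizationMonoid (Localization.AtPrime p.asIdeal) := by
  let e : (Spec (CommRingCat.of A)).presheaf.stalk p ≃+* Localization.AtPrime p.asIdeal :=
    (StructureSheaf.stalkIso A p).symm.toRingEquiv
  exact ⟨e.symm.toMulEquiv.isDomain _, e.toMulEquiv.uniqueFactorizationMonoid h⟩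

theorem ufd_stalk_of_ufd (A : Type u) [CommRing A] [IsDomain A] [UniqueFactorizationMonoid A]
    (p : Spec (CommRingCat.of A)) :
    IsDomain ((Spec (CommRingCat.of A)).presheaf.stalk p) ∧
      UniqueFactorizationMonoid ((Spec (CommRingCat.of A)).presheaf.stalk p) := by
  let e : (Spec (CommRingCat.of A)).presheaf.stalk p ≃+* Localization.AtPrime p.asIdeal :=
    (StructureSheaf.stalkIso A p).symm.toRingEquiv
  exact ⟨e.toMulEquiv.isDomain _, e.symm.toMulEquiv.uniqueFactorizationMonoid inferInstance⟩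

end Groth.Agent.ParaF27
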