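import Groth.Agent.Lib.Curve17.ExtendInvMain
import Groth.Agent.Lib.TensorMod.Invertible
import Groth.Prelude.Def_ParaF

/-!
# Restriction of invertible modules to an open along which functions extend uniquely
-/

set_option autoImplicit false

universe u

open CategoryTheory Limits AlgebraicGeometry Opposite TopologicalSpace

namespace Groth.Agent.ParaF27

open Groth.Agent.M1

variable {X : Scheme.{u}}

/-- Restriction of functions to `U` is bijective on every open. -/
def RB (U : X.Opens) : Prop :=
  ∀ W : X.Opens, Function.Bijective (X.presheaf.map (homOfLE (inf_le_left : W ⊓ U ≤ W)).op)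

/-- Restriction of sections of `M` over `W` to `U` is bijective. -/
def ResBij (U : X.Opens) (M : X.Modules) (W : X.Opens) : Prop :=
  Function.Bijective (mres M (inf_le_left : W ⊓ U ≤ W))

theorem mres_bijective_congr {M : X.Modules} {U W Z : X.Opens} (h : ResBij U M W) (hZ : Z = W ⊓ U)
    (hle : Z ≤ W) : Function.Bijective (mres M hle) := by
  subst hZ; exact h

theorem map_bijective_congr {U : X.Opens} (h : RB U) {W Z : X.Opens} (hZ : Z = W ⊓ U) (i : Z ⟶ W) :
    Function.Bijective (X.presheaf.map i.op) := by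
  subst hZ
  rw [Subsingleton.elim i (homOfLE inf_le_left)]
  exact h W

/-- Bijectivity of restriction to `U` is local. -/
theorem resBij_of_local {U : X.Opens} {M : X.Modules}
    (h : ∀ x : X, ∃ D : X.Opens, x ∈ D ∧ ∀ Z ≤ D, ResBij U M Z) (W : X.Opens) : ResBij U M W := by
  choose D hD hres using h
  have hle : ∀ x : X, W ⊓ D x ≤ W := fun x => inf_le_left
  have hcov : W ≤ ⨆ x : X, W ⊓ D x := fun y hy => Opens.mem_iSup.2 ⟨y, hy, hD y⟩
  have inj : ∀ Z : X.Opens, Function.Injective (mres M (inf_le_left : Z ⊓ U ≤ Z)) := by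
    intro Z s t hst
    refine modules_eq_of_locally_eq M Z (fun x : X => Z ⊓ D x) (fun _ => inf_le_left)
      (fun y hy => Opens.mem_iSup.2 ⟨y, hy, hD y⟩) s t fun x => ?_
    refine (hres x (Z ⊓ D x) inf_le_right).1 ?_
    rw [mres_mres, mres_mres, ← mres_mres M (inf_le_left : Z ⊓ U ≤ Z) (inf_le_inf_right U inf_le_left), hst,
      mres_mres]
  refine ⟨inj W, fun t => ?_⟩
  choose s hs using fun x : X => (hres x (W ⊓ D x) inf_le_right).2
    (mres M (inf_le_inf_right U inf_le_left : W ⊓ D x ⊓ U ≤ W ⊓ U) t)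
  obtain ⟨R, hR, -⟩ := TopCat.Sheaf.existsUnique_gluing' ⟨_, M.isSheaf⟩ (fun x : X => W ⊓ D x) W
    (fun x => homOfLE (hle x)) hcov s fun x y => by
      refine inj _ ?_
      show mres M (inf_le_left : (W ⊓ D x) ⊓ (W ⊓ D y) ⊓ U ≤ (W ⊓ D x) ⊓ (W ⊓ D y))
          (mres M (inf_le_left : (W ⊓ D x) ⊓ (W ⊓ D y) ≤ W ⊓ D x) (s x)) =
        mres M inf_le_left (mres M (inf_le_right : (W ⊓ D x) ⊓ (W ⊓ D y) ≤ W ⊓ D y) (s y))
      rw [mres_mres, mres_mres, ← mres_mres M (inf_le_left : W ⊓ D x ⊓ U ≤ W ⊓ D x)
        (inf_le_inf_right U inf_le_left), hs x, ← mres_mres M (inf_le_left : W ⊓ D y ⊓ U ≤ W ⊓ D y)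
        (inf_le_inf_right U inf_le_right), hs y, mres_mres, mres_mres]
  let R' : Γ(M, W) := R
  refine ⟨R', modules_eq_of_locally_eq M (W ⊓ U) (fun x : X => W ⊓ D x ⊓ U)
    (fun x => inf_le_inf_right U inf_le_left) (fun y hy => Opens.mem_iSup.2 ⟨y, ⟨hy.1, hD y⟩, hy.2⟩) _ _ fun x => ?_⟩
  rw [mres_mres, ← hs x, ← mres_mres M (hle x) (inf_le_left : W ⊓ D x ⊓ U ≤ W ⊓ D x)]
  exact congrArg _ (hR x)

theorem resBij_of_isGen {U : X.Opens} (hU : RB U) {M : X.Modules} {D : X.Opens} {g : Γ(M, D)}
    (hg : Twist.IsGen M D g) {Z : X.Opens} (hZ : Z ≤ D) : ResBij U M Z := by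
  have hb := hg Z hZ
  have hb' := hg (Z ⊓ U) (inf_le_left.trans hZ)
  refine (Function.Bijective.of_comp_iff _ hb).1 ?_
  have : (mres M (inf_le_left : Z ⊓ U ≤ Z)) ∘ (fun r : Γ(X, Z) => r • mres M hZ g) =
      (fun r : Γ(X, (Z ⊓ U : X.Opens)) => r • mres M (inf_le_left.trans hZ) g) ∘
        (X.presheaf.map (homOfLE (inf_le_left : Z ⊓ U ≤ Z)).op) := by
    funext r
    simp only [Function.comp_apply]
    rw [mres_smul, mres_mres]
  rw [this]
  exact hb'.comp (hU Z)

theorem resBij_of_invertible {U : X.Opens} (hU : RB U) {M : X.Modules} (hM : PicF.IsInvertible M)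
    (W : X.Opens) : ResBij U M W :=
  resBij_of_local (fun x => by
    obtain ⟨D, g, hxD, hg⟩ := ProjUP.exists_isGen_of_invertible hM x
    exact ⟨D, hxD, fun Z hZ => resBij_of_isGen hU hg hZ⟩) W

theorem rb_of_local {U : X.Opens}
    (h : ∀ x : X, ∃ D : X.Opens, x ∈ D ∧ ∀ Z ≤ D,
      Function.Bijective (X.presheaf.map (homOfLE (inf_le_left : Z ⊓ U ≤ Z)).op)) : RB U := fun W =>
  resBij_of_local (M := Coh.structureModule X) h W

variable {T : Scheme.{u}} (j : T ⟶ X) [IsOpenImmersion j]

theorem isIso_unit_of_resBij {M : X.Modules} (h : ∀ W, ResBij j.opensRange M W) :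
    IsIso ((Scheme.Modules.restrictAdjunction j).unit.app M) := by
  refine Twist.isIso_of_bijective_app _ fun W => ?_
  rw [Scheme.Modules.restrictAdjunction_unit_app_app]
  exact mres_bijective_congr (h W) (by rw [Scheme.Hom.image_preimage_eq_opensRange_inf, inf_comm]) _

theorem isIso_unit (hU : RB j.opensRange) {M : X.Modules} (hM : PicF.IsInvertible M) :
    IsIso ((Scheme.Modules.restrictAdjunction j).unit.app M) :=
  isIso_unit_of_resBij j (resBij_of_invertible hU hM)

/-- Restriction is bijective on maps into a module with bijective unit. -/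
theorem map_bijective (M M' : X.Modules) [IsIso ((Scheme.Modules.restrictAdjunction j).unit.app M')] :
    Function.Bijective (fun φ : M ⟶ M' => (Scheme.Modules.restrictFunctor j).map φ) := by
  let adj := Scheme.Modules.restrictAdjunction j
  have e : (fun φ : M ⟶ M' => (Scheme.Modules.restrictFunctor j).map φ) =
      (adj.homEquiv M (M'.restrict j)).symm ∘ (fun φ : M ⟶ M' => φ ≫ adj.unit.app M') := by
    funext φ
    simp only [Function.comp_apply]
    rw [Adjunction.homEquiv_counit, Functor.map_comp, Category.assoc, adj.left_triangle_components,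
      Category.comp_id]
  rw [e]
  exact (Equiv.bijective _).comp
    ⟨fun a b h => (cancel_mono _).1 h, fun g => ⟨g ≫ inv (adj.unit.app M'), by simp⟩⟩

theorem nonempty_iso_of_restrict (hU : RB j.opensRange) {M M' : X.Modules} (hM : PicF.IsInvertible M)
    (hM' : PicF.IsInvertible M') (e : M.restrict j ≅ M'.restrict j) : Nonempty (M ≅ M') := by
  have := isIso_unit j hU hM
  have := isIso_unit j hU hM'
  exact ⟨asIso ((Scheme.Modules.restrictAdjunction j).unit.app M) ≪≫
    (Scheme.Modules.pushforward j).mapIso e ≪≫ (asIso ((Scheme.Modules.restrictAdjunction j).unit.app M')).symm⟩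

/-- The counit. -/
noncomputable def counitIso (L : T.Modules) : ((Scheme.Modules.pushforward j).obj L).restrict j ≅ L :=
  asIso ((Scheme.Modules.restrictAdjunction j).counit.app L)

theorem isInvertible_pushforward_of_extends (hU : RB j.opensRange) {L : X.Modules} (hL : PicF.IsInvertible L)
    {L₀ : T.Modules} (e : L.restrict j ≅ L₀) : PicF.IsInvertible ((Scheme.Modules.pushforward j).obj L₀) := by
  have := isIso_unit j hU hL
  exact M2.isInvertible_of_iso
    (asIso ((Scheme.Modules.restrictAdjunction j).unit.app L) ≪≫ (Scheme.Modules.pushforward j).mapIso e) hL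

theorem invRestrictEquiv_of (hU : RB j.opensRange)
    (hpush : ∀ L₀ : T.Modules, PicF.IsInvertible L₀ → PicF.IsInvertible ((Scheme.Modules.pushforward j).obj L₀)) :
    ParaF.InvRestrictEquiv j := by
  refine ⟨fun L L' _ hL' => ?_, fun L₀ h₀ => ⟨_, hpush L₀ h₀, ⟨counitIso j L₀⟩⟩⟩
  have := isIso_unit j hU hL'
  exact map_bijective j L L'

theorem bijective_map_top_of_invRestrictEquiv (h : ParaF.InvRestrictEquiv j) :
    Function.Bijective (mres (Coh.structureModule X) (j.image_preimage_le ⊤)) := by
  let adj := Scheme.Modules.restrictAdjunction j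
  let η := adj.unit.app (Coh.structureModule X)
  have hcomp : Function.Bijective (fun φ : Coh.structureModule X ⟶ Coh.structureModule X => φ ≫ η) := by
    have hb := h.1 _ _ (PicLoc.isInvertible_structureModule X) (PicLoc.isInvertible_structureModule X)
    have e : (fun φ : Coh.structureModule X ⟶ Coh.structureModule X => φ ≫ η) =
        (adj.homEquiv _ _) ∘ (fun φ => (Scheme.Modules.restrictFunctor j).map φ) := by
      funext φ
      simp only [Function.comp_apply, Adjunction.homEquiv_unit]
      exact adj.unit.naturality φ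
    rw [e]
    exact (Equiv.bijective _).comp hb
  have key : Function.Bijective (η.app ⊤) := by
    refine ⟨fun s t hst => ?_, fun t => ?_⟩
    · have he : secHom s ≫ η = secHom t ≫ η := by rw [secHom_comp, secHom_comp]; exact congrArg _ hst
      have := congrArg (fun φ : Coh.structureModule X ⟶ Coh.structureModule X => φ.app ⊤ (one ⊤)) (hcomp.1 he)
      simpa only [secHom_app_one] using this
    · obtain ⟨φ, hφ⟩ := hcomp.2 (secHom t)
      refine ⟨φ.app ⊤ (one ⊤), ?_⟩
      have := congrArg (fun ψ => Scheme.Modules.Hom.app ψ ⊤ (one ⊤)) hφ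
      exact this.trans (secHom_app_one t)
  rwa [Scheme.Modules.restrictAdjunction_unit_app_app] at key

end Groth.Agent.ParaF27
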