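import Groth.Agent.Lib.Curve17.UFDTriv
import Groth.Agent.Lib.ParaF27.Pair
import Mathlib.RingTheory.Ideal.KrullsHeightTheorem
import Mathlib.AlgebraicGeometry.FunctionField
import Mathlib.RingTheory.KrullDimension.Field

/-!
# Hartogs for factorial affine schemes
-/

set_option autoImplicit false

universe u

open CategoryTheory AlgebraicGeometry TopologicalSpace Opposite IsLocalRing

namespace Groth.Agent.ParaF27

theorem bijective_restrict_of_ufd {X : Scheme.{u}} [IsIntegral X] (hX : IsAffineOpen (⊤ : X.Opens))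
    [UniqueFactorizationMonoid Γ(X, ⊤)] (U : X.Opens) (hne : Nonempty U)
    (hU : ∀ q : Γ(X, ⊤), Prime q → ∃ P : PrimeSpectrum Γ(X, ⊤), P.asIdeal = Ideal.span {q} ∧ hX.fromSpec P ∈ U) :
    Function.Bijective (X.presheaf.map (homOfLE (le_top : U ≤ ⊤)).op) := by
  haveI : Nonempty (⊤ : X.Opens) := ⟨⟨hne.some.1, trivial⟩⟩
  have hinjTop := Scheme.germToFunctionField_injective X (⊤ : X.Opens)
  have hres : ∀ (V : X.Opens) [Nonempty V] (r : Γ(X, ⊤)),
      X.germToFunctionField V (X.presheaf.map (homOfLE (le_top : V ≤ ⊤)).op r) = X.germToFunctionField ⊤ r :=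
    fun V _ r => X.presheaf.germ_res_apply _ _ _ r
  refine ⟨map_injective_of_isIntegral X _, fun s => ?_⟩
  let x := X.germToFunctionField U s
  have key : ∀ f : Γ(X, ⊤), X.basicOpen f ≤ U → Nonempty (X.basicOpen f) →
      ∃ (n : ℕ) (c : Γ(X, ⊤)), x * X.germToFunctionField ⊤ f ^ n = X.germToFunctionField ⊤ c := by
    intro f hf hnef
    letI : Algebra Γ(X, ⊤) Γ(X, X.basicOpen f) := (X.presheaf.map (homOfLE (le_top : X.basicOpen f ≤ ⊤)).op).hom.toAlgebra
    haveI : IsLocalization.Away f Γ(X, X.basicOpen f) := hX.isLocalization_basicOpen f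
    obtain ⟨n, c, hc⟩ := IsLocalization.Away.surj f (X.presheaf.map (homOfLE hf).op s)
    refine ⟨n, c, ?_⟩
    have h := congrArg (X.germToFunctionField (X.basicOpen f)) hc
    rw [map_mul, map_pow] at h
    refine Eq.trans ?_ (h.trans (hres _ c))
    exact congrArg₂ (fun a b => a * b ^ n) (X.presheaf.germ_res_apply _ _ _ s).symm (hres _ f).symm
  have hne0 : ∀ {f : Γ(X, ⊤)}, Nonempty (X.basicOpen f) → f ≠ 0 := fun {f} h h0 => by
    obtain ⟨y, hy⟩ := h
    subst h0
    rw [Scheme.mem_basicOpen X (0 : Γ(X, ⊤)) y trivial, map_zero] at hy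
    exact not_isUnit_zero hy
  obtain ⟨y, hy⟩ := hne
  obtain ⟨f₀, hf₀, hyf₀⟩ := hX.exists_basicOpen_le (V := U) ⟨y, hy⟩ trivial
  have hne₀ : Nonempty (X.basicOpen f₀) := ⟨⟨y, hyf₀⟩⟩
  obtain ⟨n, a, ha⟩ := key f₀ hf₀ hne₀
  obtain ⟨a', b', c', hrel, hca, hcb⟩ :=
    UniqueFactorizationMonoid.exists_reduced_factors' a (f₀ ^ n) (pow_ne_zero n (hne0 hne₀))
  have hc0 : c' ≠ 0 := fun h => pow_ne_zero n (hne0 hne₀) (by rw [← hcb, h, zero_mul])
  have hb0 : b' ≠ 0 := fun h => pow_ne_zero n (hne0 hne₀) (by rw [← hcb, h, mul_zero])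
  have hx : x * X.germToFunctionField ⊤ b' = X.germToFunctionField ⊤ a' := by
    have h0 : X.germToFunctionField ⊤ c' ≠ 0 := fun h => hc0 (hinjTop (h.trans (map_zero _).symm))
    refine mul_left_cancel₀ h0 ?_
    rw [← map_mul _ c' a', hca, ← ha, ← map_pow, ← hcb, map_mul]
    ring
  have hb : IsUnit b' := by
    by_contra hb
    obtain ⟨q, hqirr, hqb⟩ := WfDvdMonoid.exists_irreducible_factor hb hb0
    have hq := UniqueFactorizationMonoid.irreducible_iff_prime.1 hqirr
    obtain ⟨P, hP, hPU⟩ := hU q hq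
    obtain ⟨f, hf, hPf⟩ := hX.exists_basicOpen_le (V := U) ⟨_, hPU⟩ trivial
    have hfq : ¬ q ∣ f := fun h => by
      have h1 : P ∈ hX.fromSpec ⁻¹ᵁ X.basicOpen f := hPf
      rw [hX.fromSpec_preimage_basicOpen] at h1
      exact h1 (hP ▸ Ideal.mem_span_singleton.2 h : f ∈ P.asIdeal)
    obtain ⟨m, c, hc⟩ := key f hf ⟨⟨_, hPf⟩⟩
    have h2 : a' * f ^ m = c * b' := hinjTop (by
      rw [map_mul, map_mul, map_pow, ← hx, ← hc]; ring)
    have h3 : q ∣ a' := by
      rcases hq.dvd_or_dvd (h2 ▸ dvd_mul_of_dvd_right hqb c : q ∣ a' * f ^ m) with h | h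
      · exact h
      · exact absurd (hq.dvd_of_dvd_pow h) hfq
    exact hq.not_isUnit (hrel h3 hqb)
  refine ⟨a' * ↑hb.unit⁻¹, ?_⟩
  have : Nonempty U := ⟨⟨y, hy⟩⟩
  refine Scheme.germToFunctionField_injective X U ?_
  rw [hres, map_mul, ← hx, mul_assoc, ← map_mul, IsUnit.mul_val_inv, map_one, mul_one]

variable (A : Type u) [CommRing A] [IsLocalRing A]

theorem eq_top_of_closedPoint_mem (V : (Spec (CommRingCat.of A)).Opens) (h : closedPoint A ∈ V) : V = ⊤ :=
  (closedPoint_mem_iff V).1 h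

theorem bijective_punctured_of_ufd [IsDomain A] [IsNoetherianRing A] [UniqueFactorizationMonoid A]
    (hdim : (2 : WithBot ℕ∞) ≤ ringKrullDim A) :
    Function.Bijective ((Spec (CommRingCat.of A)).presheaf.map
      (homOfLE (le_top : FEt.puncturedSpec A ≤ ⊤)).op) := by
  let X := Spec (CommRingCat.of A)
  let e : Γ(X, ⊤) ≃+* A := (Scheme.ΓSpecIso (CommRingCat.of A)).commRingCatIsoToRingEquiv
  have : IsDomain Γ(X, ⊤) := MulEquiv.isDomain A e.toMulEquiv
  have : IsNoetherianRing Γ(X, ⊤) := isNoetherianRing_of_ringEquiv A e.symm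
  have : UniqueFactorizationMonoid Γ(X, ⊤) := e.symm.toMulEquiv.uniqueFactorizationMonoid inferInstance
  have : IsLocalRing Γ(X, ⊤) := e.symm.isLocalRing
  have hX : IsAffineOpen (⊤ : X.Opens) := isAffineOpen_top X
  have hd : (2 : WithBot ℕ∞) ≤ ringKrullDim Γ(X, ⊤) := by rwa [ringKrullDim_eq_of_ringEquiv e]
  have hne : (⊥ : Ideal A) ≠ maximalIdeal A := fun h => by
    have hF : IsField A := IsLocalRing.isField_iff_maximalIdeal_eq.2 h.symm
    rw [ringKrullDim_eq_zero_of_isField hF] at hdim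
    exact absurd hdim (by decide)
  refine bijective_restrict_of_ufd hX _ ⟨⟨⟨⊥, Ideal.isPrime_bot⟩, ?_⟩⟩ fun q hq => ?_
  · exact fun h => hne (congrArg PrimeSpectrum.asIdeal h)
  · have hqp : (Ideal.span {q}).IsPrime := (Ideal.span_singleton_prime hq.ne_zero).2 hq
    refine ⟨⟨_, hqp⟩, rfl, fun h => ?_⟩
    have hmax : (Ideal.span {q}).IsMaximal := by
      refine (PrimeSpectrum.isClosed_singleton_iff_isMaximal ⟨_, hqp⟩).1 ?_
      have hinj := hX.fromSpec.isOpenEmbedding.injective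
      rw [show ({(⟨_, hqp⟩ : PrimeSpectrum Γ(X, ⊤))} : Set _) = hX.fromSpec ⁻¹' {closedPoint A} from
        Set.ext fun z => ⟨fun hz => by rw [Set.mem_singleton_iff.1 hz]; exact h, fun hz => hinj (hz.trans h.symm)⟩]
      exact (isClosed_singleton_closedPoint A).preimage hX.fromSpec.continuous
    have h1 := Ideal.height_span_singleton_le_one (x := q) hq.not_isUnit
    rw [(IsLocalRing.eq_maximalIdeal hmax)] at h1
    have h2 := hd.trans_eq IsLocalRing.maximalIdeal_height_eq_ringKrullDim.symm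
    have h3 : (2 : ℕ∞) ≤ 1 := le_trans (WithBot.coe_le_coe.1 h2) h1
    exact absurd h3 (by decide)

end Groth.Agent.ParaF27
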